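import Mathlib.AlgebraicGeometry.Morphisms.UniversallyOpen
import Mathlib.AlgebraicGeometry.Morphisms.ClosedImmersion
import Mathlib.AlgebraicGeometry.ResidueField
import Mathlib.AlgebraicGeometry.Morphisms.Flat
import Mathlib.CategoryTheory.Monoidal.Cartesian.Over
import Mathlib.CategoryTheory.Monoidal.Cartesian.Grp
import Mathlib.RingTheory.HopkinsLevitzki

/-!
# Translations of a group scheme over an artinian local base are open
-/

open CategoryTheory MonoidalCategory CartesianMonoidalCategory MonObj AlgebraicGeometry Limits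

universe u

namespace Groth.Agent.GrpPtsLib

theorem universallyOpen_of_surjective_closedImmersion {X Y : Scheme.{u}} (f : X ⟶ Y)
    [IsClosedImmersion f] [Surjective f] : UniversallyOpen f := ⟨fun X' Y' i₁ i₂ f' H => by
  have h1 : IsClosedImmersion f' := MorphismProperty.of_isPullback (P := @IsClosedImmersion) H.flip ‹_›
  have h2 : Surjective f' := MorphismProperty.of_isPullback (P := @Surjective) H.flip ‹_›
  exact (f'.isClosedEmbedding.isEmbedding.toHomeomorphOfSurjective f'.surjective).isOpenMap⟩

/-- A point with values in a field of the spectrum of an artinian local ring is universally open. -/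
theorem universallyOpen_of_field {A : Type u} [CommRing A] [IsArtinianRing A] [IsLocalRing A] {K : Type u} [Field K]
    (f : Spec (CommRingCat.of K) ⟶ Spec (CommRingCat.of A)) : UniversallyOpen f := by
  obtain ⟨φ, rfl⟩ := Spec.map_surjective f
  have hm : IsLocalRing.maximalIdeal A ≤ RingHom.ker φ.hom := fun a ha => by
    have hn : IsNilpotent a := by
      have := IsArtinianRing.isNilpotent_jacobson_bot (R := A)
      rw [IsLocalRing.jacobson_eq_maximalIdeal ⊥ bot_ne_top] at this
      obtain ⟨n, hn⟩ := this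
      exact ⟨n, by simpa [hn] using Ideal.pow_mem_pow ha n⟩
    exact (hn.map φ.hom).eq_zero
  let q := CommRingCat.ofHom (IsLocalRing.residue A)
  let φ' : CommRingCat.of (IsLocalRing.ResidueField A) ⟶ CommRingCat.of K :=
    CommRingCat.ofHom (Ideal.Quotient.lift (IsLocalRing.maximalIdeal A) φ.hom hm)
  have e : φ = q ≫ φ' := rfl
  rw [e, Spec.map_comp]
  have : IsClosedImmersion (Spec.map q) := IsClosedImmersion.spec_of_surjective _ Ideal.Quotient.mk_surjective
  have : Surjective (Spec.map q) := ⟨fun x => ⟨IsLocalRing.closedPoint (IsLocalRing.ResidueField A), by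
    haveI : Subsingleton (PrimeSpectrum A) := ⟨fun a b => PrimeSpectrum.ext
      ((IsLocalRing.eq_maximalIdeal (IsArtinianRing.isMaximal_of_isPrime a.asIdeal)).trans
        (IsLocalRing.eq_maximalIdeal (IsArtinianRing.isMaximal_of_isPrime b.asIdeal)).symm)⟩
    exact Subsingleton.elim (α := PrimeSpectrum A) _ _⟩⟩
  have := universallyOpen_of_surjective_closedImmersion (Spec.map q)
  have : Subsingleton (Spec (CommRingCat.of (IsLocalRing.ResidueField A))) :=
    inferInstanceAs (Subsingleton (PrimeSpectrum (IsLocalRing.ResidueField A)))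
  infer_instance

variable {S : Scheme.{u}} (G : Over S) [GrpObj G]

/-- Two dense opens multiply onto any point `g` whose residue field point of the base is universally open. -/
theorem exists_mul_eq (g : G.left) (hg : UniversallyOpen (G.left.fromSpecResidueField g ≫ G.hom))
    (U V : Set G.left) (hU : IsOpen U) (hUd : Dense U) (hV : IsOpen V) (hVd : Dense V) :
    ∃ z : ↥(G ⊗ G).left, (fst G G).left.base z ∈ U ∧ (snd G G).left.base z ∈ V ∧ μ[G].left.base z = g := by
  let Y : Over S := Over.mk (G.left.fromSpecResidueField g ≫ G.hom)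
  let gy : Y ⟶ G := Over.homMk (G.left.fromSpecResidueField g) rfl
  let a : Y ⊗ G ⟶ G := snd Y G
  let b : Y ⊗ G ⟶ G := (snd Y G)⁻¹ * (fst Y G ≫ gy)
  let σ : Y ⊗ G ⟶ Y ⊗ G := lift (fst Y G) b
  let τ : Y ⊗ G ⟶ Y ⊗ G := lift (fst Y G) ((fst Y G ≫ gy) * (snd Y G)⁻¹)
  have hστ : σ ≫ τ = 𝟙 _ := by
    apply CartesianMonoidalCategory.hom_ext
    · simp [σ, τ]
    · simp [σ, τ, b, MonObj.comp_mul, GrpObj.comp_inv]
  have hτσ : τ ≫ σ = 𝟙 _ := by
    apply CartesianMonoidalCategory.hom_ext
    · simp [σ, τ]
    · simp [σ, τ, b, MonObj.comp_mul, GrpObj.comp_inv]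
  have : IsIso σ := ⟨τ, hστ, hτσ⟩
  have : IsIso σ.left := inferInstanceAs (IsIso ((Over.forget S).map σ))
  have ha : IsOpenMap a.left.base := by
    have : UniversallyOpen Y.hom := hg
    have : UniversallyOpen a.left := inferInstanceAs (UniversallyOpen (pullback.snd Y.hom G.hom))
    exact a.left.isOpenMap
  have hb : IsOpenMap b.left.base := by
    have e : σ ≫ a = b := lift_snd _ _
    rw [← e]
    exact ha.comp σ.left.homeomorph.isOpenMap
  obtain ⟨p₀, -, -⟩ := Scheme.Pullback.exists_preimage_pullback (f := Y.hom) (g := G.hom)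
    (IsLocalRing.closedPoint (G.left.residueField g)) g (by
      show G.hom.base ((G.left.fromSpecResidueField g).base _) = _
      rw [Scheme.fromSpecResidueField_apply])
  have hd₁ : Dense (a.left.base ⁻¹' U) := hUd.preimage ha
  have hd₂ : Dense (b.left.base ⁻¹' V) := hVd.preimage hb
  obtain ⟨p, hp₁, hp₂⟩ := hd₂.inter_open_nonempty (a.left.base ⁻¹' U) (hU.preimage a.left.continuous)
    (hd₁.nonempty_iff.mpr ⟨p₀⟩)
  refine ⟨(lift a b).left.base p, ?_, ?_, ?_⟩
  · rw [← Scheme.Hom.comp_apply, ← Over.comp_left, lift_fst]; exact hp₁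
  · rw [← Scheme.Hom.comp_apply, ← Over.comp_left, lift_snd]; exact hp₂
  · have e : lift a b ≫ μ[G] = fst Y G ≫ gy := by
      rw [← Hom.mul_def]; exact mul_inv_cancel_left _ _
    rw [← Scheme.Hom.comp_apply, ← Over.comp_left, e, Over.comp_left, Scheme.Hom.comp_apply]
    exact Scheme.fromSpecResidueField_apply _ _

/-- A generalizing map sends generic points of components to generic points of components. -/
theorem mem_irreducibleComponents_of_generalizingMap {X Y : Type u} [TopologicalSpace X] [TopologicalSpace Y]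
    [QuasiSober X] [QuasiSober Y] [T0Space X] [T0Space Y] {f : X → Y} (hfc : Continuous f) (hf : GeneralizingMap f) {x : X}
    (hx : closure {x} ∈ irreducibleComponents X) : closure {f x} ∈ irreducibleComponents Y := by
  refine ⟨isIrreducible_singleton.closure, fun C hC hle => ?_⟩
  have hη := hC.isGenericPoint_genericPoint_closure
  have hsp : hC.genericPoint ⤳ f x :=
    hη.specializes (subset_closure (hle (subset_closure rfl)))
  obtain ⟨x', hx', hfx⟩ := hf hsp
  have : x' ∈ closure {x} := hx.2 isIrreducible_singleton.closure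
    (closure_minimal (Set.singleton_subset_iff.mpr hx'.mem_closure) isClosed_closure) (subset_closure rfl)
  obtain rfl : x' = x := (hx'.antisymm (specializes_iff_mem_closure.mpr this)).eq
  calc C ⊆ closure C := subset_closure
    _ = closure {hC.genericPoint} := hη.def.symm
    _ = closure {f x'} := by rw [hfx]

/-- Every point is the product of two maximal points, over a field. -/
theorem exists_mul_eq_of_maximal (g : G.left) (hg : Flat (G.left.fromSpecResidueField g ≫ G.hom)) :
    ∃ z : ↥(G ⊗ G).left, μ[G].left.base z = g ∧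
      closure {(fst G G).left.base z} ∈ irreducibleComponents ↥G.left ∧
      closure {(snd G G).left.base z} ∈ irreducibleComponents ↥G.left := by
  let Y : Over S := Over.mk (G.left.fromSpecResidueField g ≫ G.hom)
  let gy : Y ⟶ G := Over.homMk (G.left.fromSpecResidueField g) rfl
  let a : Y ⊗ G ⟶ G := snd Y G
  let b : Y ⊗ G ⟶ G := (snd Y G)⁻¹ * (fst Y G ≫ gy)
  let σ : Y ⊗ G ⟶ Y ⊗ G := lift (fst Y G) b
  let τ : Y ⊗ G ⟶ Y ⊗ G := lift (fst Y G) ((fst Y G ≫ gy) * (snd Y G)⁻¹)
  have hστ : σ ≫ τ = 𝟙 _ := by
    apply CartesianMonoidalCategory.hom_ext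
    · simp [σ, τ]
    · simp [σ, τ, b, MonObj.comp_mul, GrpObj.comp_inv]
  have hτσ : τ ≫ σ = 𝟙 _ := by
    apply CartesianMonoidalCategory.hom_ext
    · simp [σ, τ]
    · simp [σ, τ, b, MonObj.comp_mul, GrpObj.comp_inv]
  have : IsIso σ := ⟨τ, hστ, hτσ⟩
  have : IsIso σ.left := inferInstanceAs (IsIso ((Over.forget S).map σ))
  have : Flat Y.hom := hg
  have ha : Flat a.left := inferInstanceAs (Flat (pullback.snd Y.hom G.hom))
  have hb : Flat b.left := by
    have e : σ ≫ a = b := lift_snd _ _
    rw [← e, Over.comp_left]; infer_instance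
  obtain ⟨p₀, -, -⟩ := Scheme.Pullback.exists_preimage_pullback (f := Y.hom) (g := G.hom)
    (IsLocalRing.closedPoint (G.left.residueField g)) g (by
      show G.hom.base ((G.left.fromSpecResidueField g).base _) = _
      rw [Scheme.fromSpecResidueField_apply])
  obtain ⟨p, hp⟩ : ∃ p : ↥(Y ⊗ G).left, closure {p} ∈ irreducibleComponents ↥(Y ⊗ G).left := by
    have hmem := irreducibleComponent_mem_irreducibleComponents p₀
    obtain ⟨p, hp⟩ := QuasiSober.sober hmem.1 (isClosed_irreducibleComponent (x := p₀))
    exact ⟨p, hp.def.symm ▸ hmem⟩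
  refine ⟨(lift a b).left.base p, ?_, ?_, ?_⟩
  · have e : lift a b ≫ μ[G] = fst Y G ≫ gy := by
      rw [← Hom.mul_def]; exact mul_inv_cancel_left _ _
    rw [← Scheme.Hom.comp_apply, ← Over.comp_left, e, Over.comp_left, Scheme.Hom.comp_apply]
    exact Scheme.fromSpecResidueField_apply _ _
  · rw [← Scheme.Hom.comp_apply, ← Over.comp_left, lift_fst]
    exact mem_irreducibleComponents_of_generalizingMap a.left.continuous (Flat.generalizingMap a.left) hp
  · rw [← Scheme.Hom.comp_apply, ← Over.comp_left, lift_snd]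
    exact mem_irreducibleComponents_of_generalizingMap b.left.continuous (Flat.generalizingMap b.left) hp

end Groth.Agent.GrpPtsLib
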